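import Groth.Agent.H20FF.Main
import Groth.Prelude.Def_SGA3
import Mathlib.RingTheory.Bialgebra.Hom

/-!
Hopf subalgebras as Hopf algebras; images of Hopf maps; faithful flatness over them.
-/

set_option autoImplicit false

universe u v w

open TensorProduct WithConv

namespace Groth.Agent.H20FF

noncomputable section

variable {k : Type u} [Field k] {A : Type v} [CommRing A] [HopfAlgebra k A] (C : Subalgebra k A)

/-- Stability under comultiplication and antipode. -/
def IsHopfSub : Prop :=
  (∀ b ∈ C, CoalgebraStruct.comul (R := k) (A := A) b ∈
      LinearMap.range (TensorProduct.map C.val.toLinearMap C.val.toLinearMap)) ∧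
    ∀ b ∈ C, HopfAlgebraStruct.antipode (R := k) (A := A) b ∈ C

theorem valMap_injective : Function.Injective (Algebra.TensorProduct.map C.val C.val) := by
  show Function.Injective (TensorProduct.map C.val.toLinearMap C.val.toLinearMap)
  rw [← LinearMap.lTensor_comp_rTensor, LinearMap.coe_comp]
  exact (Module.Flat.lTensor_preserves_injective_linearMap _ Subtype.val_injective).comp
    (Module.Flat.rTensor_preserves_injective_linearMap _ Subtype.val_injective)

variable {C} (hC : IsHopfSub C)

/-- The comultiplication of a Hopf subalgebra. -/
def subComul : C →ₐ[k] C ⊗[k] C :=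
  (AlgEquiv.ofInjective _ (valMap_injective C)).symm.toAlgHom.comp
    (((Bialgebra.comulAlgHom k A).comp C.val).codRestrict _ fun x => by
      obtain ⟨z, hz⟩ := hC.1 x x.2
      exact ⟨z, hz⟩)

theorem valMap_subComul (x : C) :
    Algebra.TensorProduct.map C.val C.val (subComul hC x) = CoalgebraStruct.comul (R := k) (x : A) :=
  congrArg Subtype.val ((AlgEquiv.ofInjective _ (valMap_injective C)).apply_symm_apply
    ⟨CoalgebraStruct.comul (R := k) (x : A), _⟩)

/-- The bialgebra structure of a Hopf subalgebra. -/
@[implicit_reducible]
def subBialgebra : Bialgebra k C :=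
  Bialgebra.ofAlgHom (subComul hC) ((Bialgebra.counitAlgHom k A).comp C.val)
    (by
      refine AlgHom.ext fun x => ?_
      simp only [AlgEquiv.toAlgHom_eq_coe, AlgHom.coe_comp, AlgHom.coe_coe, Function.comp_apply]
      apply (show Function.Injective (TensorProduct.map C.val.toLinearMap
          (TensorProduct.map C.val.toLinearMap C.val.toLinearMap)) by
        rw [← LinearMap.lTensor_comp_rTensor, LinearMap.coe_comp]
        exact (Module.Flat.lTensor_preserves_injective_linearMap _ (valMap_injective C)).comp
          (Module.Flat.rTensor_preserves_injective_linearMap _ Subtype.val_injective))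
      have h1 : ∀ z : C ⊗[k] C, TensorProduct.map C.val.toLinearMap (TensorProduct.map C.val.toLinearMap C.val.toLinearMap)
          ((Algebra.TensorProduct.assoc k k k C C C) (Algebra.TensorProduct.map (subComul hC) (AlgHom.id k C) z)) =
          TensorProduct.assoc k A A A ((CoalgebraStruct.comul (R := k) (A := A)).rTensor A
            (Algebra.TensorProduct.map C.val C.val z)) := by
        intro z
        induction z using TensorProduct.induction_on with
        | zero => simp
        | tmul a b =>
          simp only [Algebra.TensorProduct.map_tmul, AlgHom.id_apply, Subalgebra.coe_val, LinearMap.rTensor_tmul,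
            ← valMap_subComul hC a]
          generalize subComul hC a = y
          induction y using TensorProduct.induction_on with
          | zero => simp
          | tmul p q => simp
          | add u v hu hv => simp only [TensorProduct.add_tmul, map_add, hu, hv]
        | add u v hu hv => simp only [map_add, hu, hv]
      have h2 : ∀ z : C ⊗[k] C, TensorProduct.map C.val.toLinearMap (TensorProduct.map C.val.toLinearMap C.val.toLinearMap)
          (Algebra.TensorProduct.map (AlgHom.id k C) (subComul hC) z) =
          (CoalgebraStruct.comul (R := k) (A := A)).lTensor A (Algebra.TensorProduct.map C.val C.val z) := by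
        intro z
        induction z using TensorProduct.induction_on with
        | zero => simp
        | tmul a b =>
          simp only [Algebra.TensorProduct.map_tmul, AlgHom.id_apply, TensorProduct.map_tmul, LinearMap.lTensor_tmul,
            Subalgebra.coe_val, ← valMap_subComul hC b]
          rfl
        | add u v hu hv => simp only [map_add, hu, hv]
      refine (h1 _).trans (Eq.trans ?_ (h2 _).symm)
      rw [valMap_subComul]
      exact Coalgebra.coassoc_apply (R := k) (x : A))
    (by
      refine AlgHom.ext fun x => ?_
      simp only [AlgEquiv.toAlgHom_eq_coe, AlgHom.coe_comp, AlgHom.coe_coe, Function.comp_apply]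
      apply Module.Flat.lTensor_preserves_injective_linearMap (M := k) C.val.toLinearMap Subtype.val_injective
      have h1 : ∀ z : C ⊗[k] C, C.val.toLinearMap.lTensor k
          (Algebra.TensorProduct.map ((Bialgebra.counitAlgHom k A).comp C.val) (AlgHom.id k C) z) =
          (CoalgebraStruct.counit (R := k) (A := A)).rTensor A (Algebra.TensorProduct.map C.val C.val z) := by
        intro z
        induction z using TensorProduct.induction_on with
        | zero => simp
        | tmul a b => simp
        | add u v hu hv => simp only [map_add, hu, hv]
      rw [h1, valMap_subComul, Coalgebra.rTensor_counit_comul]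
      simp)
    (by
      refine AlgHom.ext fun x => ?_
      simp only [AlgEquiv.toAlgHom_eq_coe, AlgHom.coe_comp, AlgHom.coe_coe, Function.comp_apply]
      apply Module.Flat.rTensor_preserves_injective_linearMap (M := k) C.val.toLinearMap Subtype.val_injective
      have h1 : ∀ z : C ⊗[k] C, C.val.toLinearMap.rTensor k
          (Algebra.TensorProduct.map (AlgHom.id k C) ((Bialgebra.counitAlgHom k A).comp C.val) z) =
          (CoalgebraStruct.counit (R := k) (A := A)).lTensor A (Algebra.TensorProduct.map C.val C.val z) := by
        intro z
        induction z using TensorProduct.induction_on with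
        | zero => simp
        | tmul a b => simp
        | add u v hu hv => simp only [map_add, hu, hv]
      rw [h1, valMap_subComul, Coalgebra.lTensor_counit_comul]
      simp)

/-- The Hopf algebra structure of a Hopf subalgebra. -/
@[implicit_reducible]
def subHopf : HopfAlgebra k C :=
  letI := subBialgebra hC
  HopfAlgebra.ofAlgHom (((HopfAlgebra.antipodeAlgHom k A).comp C.val).codRestrict C fun x => hC.2 x x.2)
    (by
      refine AlgHom.ext fun x => Subtype.ext ?_
      show ((Algebra.TensorProduct.lift _ _ (fun _ _ => Commute.all _ _) (subComul hC x) : C) : A) = _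
      refine Eq.trans ?_ (HopfAlgebra.mul_antipode_rTensor_comul_apply (R := k) (x : A))
      rw [← valMap_subComul hC x]
      generalize subComul hC x = z
      induction z using TensorProduct.induction_on with
      | zero => simp
      | tmul p q => simp
      | add u v hu hv => simp only [map_add, Subalgebra.coe_add, hu, hv])
    (by
      refine AlgHom.ext fun x => Subtype.ext ?_
      show ((Algebra.TensorProduct.lift _ _ (fun _ _ => Commute.all _ _) (subComul hC x) : C) : A) = _
      refine Eq.trans ?_ (HopfAlgebra.mul_antipode_lTensor_comul_apply (R := k) (x : A))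
      rw [← valMap_subComul hC x]
      generalize subComul hC x = z
      induction z using TensorProduct.induction_on with
      | zero => simp
      | tmul p q => simp
      | add u v hu hv => simp only [map_add, Subalgebra.coe_add, hu, hv])

/-- The inclusion of a Hopf subalgebra as a bialgebra map. -/
def subVal : letI := subHopf hC; C →ₐc[k] A :=
  letI := subHopf hC
  BialgHom.ofAlgHom C.val rfl (AlgHom.ext fun x => valMap_subComul hC x)

include hC in
/-- A commutative Hopf algebra over a field is faithfully flat over its Hopf subalgebras. -/
theorem faithfullyFlat_subalgebra : Module.FaithfullyFlat C A := by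
  letI := subHopf hC
  exact faithfullyFlat_of_injective (subVal hC) Subtype.val_injective fun _ => rfl

omit hC in
theorem map_antipode {B : Type w} [CommRing B] [HopfAlgebra k B] (f : A →ₐc[k] B) (a : A) :
    f (HopfAlgebra.antipode k a) = HopfAlgebra.antipode k (f a) := by
  have h1 : toConv ((f : A →ₐ[k] B).toLinearMap ∘ₗ HopfAlgebra.antipode k (A := A)) * toConv (f : A →ₐ[k] B).toLinearMap = 1 := by
    have := LinearMap.algHom_comp_convMul_distrib (f : A →ₐ[k] B) (toConv (HopfAlgebra.antipode k (A := A))) (toConv LinearMap.id)
    rw [LinearMap.antipode_mul_id] at this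
    refine WithConv.ofConv_injective ?_
    refine Eq.trans this.symm ?_
    exact LinearMap.ext fun x => (f : A →ₐ[k] B).commutes _
  have h2 : toConv (f : A →ₐ[k] B).toLinearMap * toConv (HopfAlgebra.antipode k (A := B) ∘ₗ (f : A →ₐ[k] B).toLinearMap) = 1 := by
    have := LinearMap.convMul_comp_coalgHom_distrib (toConv (LinearMap.id (R := k) (M := B)))
      (toConv (HopfAlgebra.antipode k (A := B))) (f : A →ₗc[k] B)
    rw [LinearMap.id_mul_antipode] at this
    refine WithConv.ofConv_injective ?_
    refine Eq.trans this.symm ?_
    exact LinearMap.ext fun x => congrArg (algebraMap k B) (CoalgHomClass.counit_comp_apply f x)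
  exact LinearMap.congr_fun (congrArg WithConv.ofConv (left_inv_eq_right_inv h1 h2)) a

omit hC in
theorem isHopfSub_range {B : Type w} [CommRing B] [HopfAlgebra k B] (f : A →ₐc[k] B) :
    IsHopfSub (f : A →ₐ[k] B).range := by
  refine ⟨?_, ?_⟩
  · rintro _ ⟨a, rfl⟩
    refine ⟨TensorProduct.map (f : A →ₐ[k] B).rangeRestrict.toLinearMap (f : A →ₐ[k] B).rangeRestrict.toLinearMap
      (CoalgebraStruct.comul (R := k) a), ?_⟩
    refine Eq.trans ?_ (CoalgHomClass.map_comp_comul_apply f a)
    generalize CoalgebraStruct.comul (R := k) a = z
    induction z using TensorProduct.induction_on with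
    | zero => simp
    | tmul p q => simp
    | add u v hu hv => simp only [map_add, hu, hv]
  · rintro _ ⟨a, rfl⟩
    exact ⟨HopfAlgebra.antipode k a, map_antipode f a⟩

end

end Groth.Agent.H20FF
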