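import Groth.Agent.H20FF.SubHopf
import Mathlib.RingTheory.Flat.FaithfullyFlat.Algebra

/-!
Coinvariants of the quotient by the augmentation ideal of a Hopf subalgebra are the subalgebra.
-/

set_option autoImplicit false

universe u v w w'

open TensorProduct WithConv

namespace Groth.Agent.H20FF

noncomputable section

variable {k : Type u} [Field k] {B : Type v} [CommRing B] [HopfAlgebra k B]
  {A : Type w} [CommRing A] [HopfAlgebra k A] (ι : B →ₐc[k] A)
  {Q : Type w'} [CommRing Q] [Bialgebra k Q] (π : A →ₐc[k] Q)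

theorem mem_range_of_coinvariant (hι : Function.Injective ι) (hπ : Function.Surjective π)
    (hker : ∀ a : A, π a = 0 → a ∈ Ideal.map (ι : B →+* A) (RingHom.ker (Bialgebra.counitAlgHom k B)))
    {c : A} (hc : LinearMap.lTensor A (π : A →ₗ[k] Q) (CoalgebraStruct.comul (R := k) c) = c ⊗ₜ[k] (1 : Q)) :
    ∃ b : B, ι b = c := by
  letI : Algebra B A := (ι : B →+* A).toAlgebra
  haveI : IsScalarTower k B A := IsScalarTower.of_algebraMap_eq fun r => ((ι : B →ₐ[k] A).commutes r).symm
  haveI := faithfullyFlat_of_injective ι hι fun _ => rfl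
  let T := A ⊗[B] A
  let iL : A →ₐ[k] T := Algebra.TensorProduct.includeLeft
  let iR : A →ₐ[k] T := (Algebra.TensorProduct.includeRight : A →ₐ[B] T).restrictScalars k
  let Θ := toConv (iL.comp (HopfAlgebra.antipodeAlgHom k A)) * toConv iR
  have hΘ : ∀ b : B, Θ.ofConv (ι b) = algebraMap k T (CoalgebraStruct.counit (R := k) b) := by
    intro b
    have hLR : iR.comp (ι : B →ₐ[k] A) = iL.comp (ι : B →ₐ[k] A) := AlgHom.ext fun b => by
      show (1 : A) ⊗ₜ[B] algebraMap B A b = algebraMap B A b ⊗ₜ[B] (1 : A)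
      rw [Algebra.algebraMap_eq_smul_one, TensorProduct.tmul_smul, TensorProduct.smul_tmul']
    have h := AlgHom.convMul_comp_bialgHom_distrib (toConv (iL.comp (HopfAlgebra.antipodeAlgHom k A))) (toConv iR) ι
    simp only [ofConv_toConv, hLR, AlgHom.comp_assoc] at h
    have h2 := AlgHom.comp_convMul_distrib iL (toConv ((HopfAlgebra.antipodeAlgHom k A).comp (ι : B →ₐ[k] A)))
      (toConv (ι : B →ₐ[k] A))
    simp only [ofConv_toConv] at h2
    have h3 := AlgHom.convMul_comp_bialgHom_distrib (toConv (HopfAlgebra.antipodeAlgHom k A)) (toConv (AlgHom.id k A)) ι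
    simp only [ofConv_toConv, AlgHom.id_comp] at h3
    have h4 : toConv (HopfAlgebra.antipodeAlgHom k A) * toConv (AlgHom.id k A) = 1 := by
      apply WithConv.ofConv_injective
      apply AlgHom.toLinearMap_injective
      exact congrArg WithConv.ofConv (LinearMap.antipode_mul_id (R := k) (C := A))
    rw [h4] at h3
    have h5 : Θ.ofConv (ι b) = iL ((1 : WithConv (A →ₐ[k] A)).ofConv (ι b)) := by
      refine (AlgHom.congr_fun h b).trans ?_
      rw [← h2, ← h3]
      rfl
    rw [h5, AlgHom.convOne_def]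
    show iL (algebraMap k A (CoalgebraStruct.counit (R := k) (ι b))) = _
    rw [AlgHom.commutes, CoalgHomClass.counit_comp_apply]
  let Ψ : A ⊗[k] A →ₐ[k] T := Algebra.TensorProduct.lift iL Θ.ofConv fun _ _ => .all _ _
  have hkill : ∀ a : A, π a = 0 → Θ.ofConv a = 0 := fun a ha => by
    have hle : Ideal.map (ι : B →+* A) (RingHom.ker (Bialgebra.counitAlgHom k B)) ≤ RingHom.ker Θ.ofConv := by
      rw [Ideal.map_le_iff_le_comap]
      intro b hb
      show Θ.ofConv (ι b) = 0
      rw [hΘ, ← Bialgebra.counitAlgHom_apply, show Bialgebra.counitAlgHom k B b = 0 from hb, map_zero]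
    exact hle (hker a ha)
  have hx : Ψ (CoalgebraStruct.comul (R := k) c - c ⊗ₜ[k] (1 : A)) = 0 := by
    have hex := lTensor_exact A (LinearMap.exact_subtype_ker_map (π : A →ₗ[k] Q)) (show Function.Surjective (π : A →ₗ[k] Q) from hπ)
    obtain ⟨y, hy⟩ := (hex (CoalgebraStruct.comul (R := k) c - c ⊗ₜ[k] (1 : A))).1 (by
      rw [map_sub, hc, LinearMap.lTensor_tmul, show (π : A →ₗ[k] Q) 1 = 1 from map_one π, sub_self])
    rw [← hy]
    clear hy
    induction y using TensorProduct.induction_on with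
    | zero => simp
    | tmul a n => simp [Ψ, hkill n (LinearMap.mem_ker.1 n.2)]
    | add u v hu hv => simp only [map_add, hu, hv, add_zero]
  have hΨ : Ψ (CoalgebraStruct.comul (R := k) c) = (1 : A) ⊗ₜ[B] c := by
    have h1 : Ψ (CoalgebraStruct.comul (R := k) c) = (toConv iL * Θ).ofConv c := (AlgHom.convMul_apply _ _ c).symm
    have h6 : toConv iL * toConv (iL.comp (HopfAlgebra.antipodeAlgHom k A)) = 1 := by
      have h7 : toConv (AlgHom.id k A) * toConv (HopfAlgebra.antipodeAlgHom k A) = 1 := by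
        apply WithConv.ofConv_injective
        apply AlgHom.toLinearMap_injective
        exact congrArg WithConv.ofConv (LinearMap.id_mul_antipode (R := k) (C := A))
      have h8 := AlgHom.comp_convMul_distrib iL (toConv (AlgHom.id k A)) (toConv (HopfAlgebra.antipodeAlgHom k A))
      simp only [ofConv_toConv, AlgHom.comp_id, h7] at h8
      refine WithConv.ofConv_injective (h8.symm.trans (AlgHom.ext fun x => ?_))
      show iL (algebraMap k A _) = algebraMap k T _
      rw [AlgHom.commutes]
    rw [h1, show Θ = toConv (iL.comp (HopfAlgebra.antipodeAlgHom k A)) * toConv iR from rfl, ← mul_assoc, h6, one_mul]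
    rfl
  rw [map_sub, hΨ, sub_eq_zero] at hx
  have hx2 : (1 : A) ⊗ₜ[B] c = c ⊗ₜ[B] (1 : A) := by rw [hx]; simp [Ψ, iL]; rfl
  let R : Submodule B A := LinearMap.range (Algebra.linearMap B A)
  have h0 : TensorProduct.mk B A (A ⧸ R) 1 (R.mkQ c) = 0 := by
    have h := congrArg (R.mkQ.lTensor A) hx2
    rw [LinearMap.lTensor_tmul, LinearMap.lTensor_tmul, show R.mkQ (1 : A) = 0 from
      (Submodule.Quotient.mk_eq_zero R).2 ⟨1, map_one (algebraMap B A)⟩, TensorProduct.tmul_zero] at h
    exact h
  have h9 := Module.FaithfullyFlat.tensorProduct_mk_injective (A := B) (B := A) (A ⧸ R) (h0.trans (map_zero _).symm)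
  obtain ⟨b, hb⟩ := (Submodule.Quotient.mk_eq_zero R).1 h9
  exact ⟨b, hb⟩

end

end Groth.Agent.H20FF
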