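import Groth.Agent.H20Comod.DualMod
import Groth.Agent.H20Comod.Slices
import Mathlib.RingTheory.Bialgebra.Convolution
import Mathlib.RingTheory.Flat.Localization
import Mathlib.RingTheory.Flat.EquationalCriterion
import Mathlib.RingTheory.Flat.FaithfullyFlat.Basic
import Mathlib.RingTheory.Finiteness.Nakayama
import Mathlib.RingTheory.LocalRing.ResidueField.Ideal
import Mathlib.RingTheory.TensorProduct.Basic
import Mathlib.LinearAlgebra.Matrix.NonsingularInverse
import Mathlib.RingTheory.HopfAlgebra.Convolution
import Mathlib.Algebra.Module.Torsion.Basic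

/-!
A commutative Hopf algebra over a field is faithfully flat over every Hopf subalgebra.

For a finite relative Hopf module `M` (a `B`-module with a compatible `A`-coaction) with fibre of dimension `n` at the
counit, the fibres have dimension at most `n` everywhere (translation by points), and near each prime any `n` generators
are independent, because after extension along `ι : B → A` the module becomes free of rank `n`.
-/

set_option autoImplicit false

universe u v w w' x

open TensorProduct HopfRep WithConv

namespace Groth.Agent.H20FF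

open Groth.Agent.H20Comod

noncomputable section

variable {k : Type u} [Field k] {B : Type v} [CommRing B] [HopfAlgebra k B]
  {A : Type w} [CommRing A] [HopfAlgebra k A] (ι : B →ₐc[k] A)

section Modules

variable {M : Type w'} [AddCommGroup M] [Module k M] [Module B M] [IsScalarTower k B M] [Comod k A M]

/-- `B ⊗ B` acting on `M ⊗ A`. -/
def act2 : B ⊗[k] B →ₗ[k] (M ⊗[k] A →ₗ[k] M ⊗[k] A) :=
  TensorProduct.homTensorHomMap (RingHom.id k) M A M A ∘ₗ
    TensorProduct.map (Algebra.lsmul k k M).toLinearMap (LinearMap.mul k A ∘ₗ (ι : B →ₗ[k] A))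

@[simp] theorem act2_tmul (b b' : B) (m : M) (a : A) :
    act2 ι (b ⊗ₜ[k] b') (m ⊗ₜ[k] a) = (b • m) ⊗ₜ[k] (ι b' * a) := rfl

variable (M) in
/-- The coaction is compatible with the `B`-module structure. -/
def IsRelHopf : Prop :=
  ∀ (b : B) (m : M), Comod.coact (k := k) (A := A) (b • m) =
    act2 ι (CoalgebraStruct.comul (R := k) b) (Comod.coact (k := k) (A := A) m)

variable {R : Type x} [CommRing R] [Algebra k R]

/-- Translate a form by a point. -/
def translate (h : A →ₐ[k] R) (f : M →ₗ[k] R) : M →ₗ[k] R :=
  LinearMap.mul' k R ∘ₗ TensorProduct.map f h.toLinearMap ∘ₗ Comod.coact (k := k) (A := A)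

omit [Module B M] [IsScalarTower k B M] in
theorem translate_apply_fixed (h : A →ₐ[k] R) (f : M →ₗ[k] R) {z : M}
    (hz : Comod.coact (k := k) (A := A) z = z ⊗ₜ[k] (1 : A)) : translate h f z = f z := by
  simp [translate, hz]

omit [Module B M] [IsScalarTower k B M] in
theorem translate_translate_antipode (h : A →ₐ[k] R) (f : M →ₗ[k] R) (m : M) :
    translate (h.comp (HopfAlgebra.antipodeAlgHom k A)) (translate h f) m = f m := by
  let h' := h.comp (HopfAlgebra.antipodeAlgHom k A)
  have hco := LinearMap.congr_fun (Comod.coassoc (k := k) (A := A) (V := M)) m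
  simp only [LinearMap.coe_comp, Function.comp_apply, LinearEquiv.coe_coe] at hco
  let F : M ⊗[k] (A ⊗[k] A) →ₗ[k] R :=
    LinearMap.mul' k R ∘ₗ TensorProduct.map f (LinearMap.mul' k R ∘ₗ TensorProduct.map h.toLinearMap h'.toLinearMap)
  have h1 : ∀ z : M ⊗[k] A, LinearMap.mul' k R (TensorProduct.map (translate h f) h'.toLinearMap z) =
      F (TensorProduct.assoc k M A A ((Comod.coact (k := k) (A := A)).rTensor A z)) := by
    intro z
    induction z using TensorProduct.induction_on with
    | zero => simp
    | tmul x a =>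
      simp only [translate, LinearMap.rTensor_tmul, TensorProduct.map_tmul, LinearMap.coe_comp, Function.comp_apply,
        LinearMap.mul'_apply]
      generalize Comod.coact (k := k) (A := A) x = y
      induction y using TensorProduct.induction_on with
      | zero => simp
      | tmul p b => simp [F, mul_assoc]
      | add x y hx hy => simp only [TensorProduct.add_tmul, map_add, add_mul, hx, hy]
    | add x y hx hy => simp only [map_add, hx, hy]
  have h2 : ∀ a : A, LinearMap.mul' k R (TensorProduct.map h.toLinearMap h'.toLinearMap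
      (CoalgebraStruct.comul (R := k) a)) = algebraMap k R (CoalgebraStruct.counit (R := k) a) := by
    intro a
    have := congrArg h (HopfAlgebra.mul_antipode_lTensor_comul_apply (R := k) a)
    rw [AlgHom.commutes] at this
    rw [← this]
    generalize CoalgebraStruct.comul (R := k) a = z
    induction z using TensorProduct.induction_on with
    | zero => simp
    | tmul p q => simp [h']
    | add x y hx hy => simp only [map_add, hx, hy]
  show LinearMap.mul' k R (TensorProduct.map (translate h f) h'.toLinearMap (Comod.coact (k := k) (A := A) m)) = f m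
  rw [h1, hco]
  have hcu := LinearMap.congr_fun (Comod.counit_comp (k := k) (A := A) (V := M)) m
  simp only [LinearMap.coe_comp, Function.comp_apply, LinearMap.flip_apply, TensorProduct.mk_apply] at hcu
  have h3 : ∀ z : M ⊗[k] A, F ((CoalgebraStruct.comul (R := k) (A := A)).lTensor M z) =
      LinearMap.mul' k R (TensorProduct.map f (Algebra.linearMap k R)
        ((CoalgebraStruct.counit (R := k) (A := A)).lTensor M z)) := by
    intro z
    induction z using TensorProduct.induction_on with
    | zero => simp
    | tmul x a => simp [F, h2]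
    | add x y hx hy => simp only [map_add, hx, hy]
  rw [h3, hcu]
  simp

theorem translate_smul (hM : IsRelHopf ι M) (g : B →ₐ[k] R) (h : A →ₐ[k] R) {f : M →ₗ[k] R}
    (hf : ∀ (b : B) (m : M), f (b • m) = g b * f m) (b : B) (m : M) :
    translate h f (b • m) = (toConv g * toConv (h.comp (ι : B →ₐ[k] A))).ofConv b * translate h f m := by
  rw [AlgHom.convMul_apply]
  simp only [translate, LinearMap.coe_comp, Function.comp_apply, hM b m]
  generalize CoalgebraStruct.comul (R := k) b = z
  generalize Comod.coact (k := k) (A := A) m = y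
  induction z using TensorProduct.induction_on with
  | zero => simp
  | tmul b1 b2 =>
    induction y using TensorProduct.induction_on with
    | zero => simp
    | tmul w a =>
      simp only [act2_tmul, TensorProduct.map_tmul, LinearMap.mul'_apply, hf, AlgHom.toLinearMap_apply, map_mul,
        Algebra.TensorProduct.lift_tmul, ofConv_toConv, AlgHom.comp_apply, BialgHom.coe_toAlgHom]
      ring
    | add x y hx hy => simp only [map_add, hx, hy, mul_add]
  | add x y hx hy => simp only [map_add, LinearMap.add_apply, hx, hy, add_mul]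

/-- Extension along `ι` trivialises a relative Hopf module: the coefficient maps. -/
theorem coeff_smul (hM : IsRelHopf ι M) {φ : M →ₗ[k] k}
    (hφ : ∀ (b : B) (m : M), φ (b • m) = CoalgebraStruct.counit (R := k) b * φ m) (b : B) (m : M) :
    coeff A φ (b • m) = ι b * coeff A φ m := by
  have h0 : ι b = ι (sliceL (CoalgebraStruct.counit (R := k)) (CoalgebraStruct.comul (R := k) b)) := by
    congr 1
    simp [sliceL, Coalgebra.rTensor_counit_comul]
  rw [coeff_apply, coeff_apply, hM b m, h0]
  generalize CoalgebraStruct.comul (R := k) b = z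
  generalize Comod.coact (k := k) (A := A) m = y
  induction z using TensorProduct.induction_on with
  | zero => simp
  | tmul b1 b2 =>
    induction y using TensorProduct.induction_on with
    | zero => simp
    | tmul w a =>
      simp only [act2_tmul, sliceL_tmul, hφ, map_smul, smul_mul_assoc, mul_smul_comm, smul_smul]
      rw [mul_comm]
    | add x y hx hy => simp only [map_add, hx, hy, mul_add]
  | add x y hx hy => simp only [map_add, LinearMap.add_apply, hx, hy, add_mul]

omit [Module B M] [IsScalarTower k B M] in
theorem single_mem_span_coeff {n : ℕ} (φ : Fin n → (M →ₗ[k] k)) (j : Fin n) (m : M)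
    (hm : ∀ i, φ i m = if i = j then 1 else 0) :
    (Pi.single j 1 : Fin n → A) ∈ Submodule.span A (Set.range fun m : M => fun i => coeff A (φ i) m) := by
  classical
  let Φ : M →ₗ[k] (Fin n → A) := LinearMap.pi fun i => coeff A (φ i)
  let Z : M ⊗[k] A →ₗ[k] (Fin n → A) :=
    TensorProduct.lift (LinearMap.mk₂ k (fun w a => (HopfAlgebra.antipode k a : A) • Φ w)
      (fun w w' a => by simp [smul_add]) (fun c w a => by rw [map_smul, smul_comm])
      (fun w a a' => by simp [add_smul]) (fun c w a => by rw [map_smul, smul_assoc]))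
  have hZmem : ∀ z, Z z ∈ Submodule.span A (Set.range fun m : M => fun i => coeff A (φ i) m) := by
    intro z
    induction z using TensorProduct.induction_on with
    | zero => simp
    | tmul w a => exact Submodule.smul_mem _ _ (Submodule.subset_span ⟨w, rfl⟩)
    | add x y hx hy => rw [map_add]; exact add_mem hx hy
  convert hZmem (Comod.coact (k := k) (A := A) m)
  funext i
  have hco := LinearMap.congr_fun (Comod.coassoc (k := k) (A := A) (V := M)) m
  simp only [LinearMap.coe_comp, Function.comp_apply, LinearEquiv.coe_coe] at hco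
  let G : M ⊗[k] (A ⊗[k] A) →ₗ[k] A :=
    (TensorProduct.lid k A).toLinearMap ∘ₗ
      TensorProduct.map (φ i) (LinearMap.mul' k A ∘ₗ (HopfAlgebra.antipode k).lTensor A)
  have h1 : ∀ z : M ⊗[k] A, Z z i = G (TensorProduct.assoc k M A A ((Comod.coact (k := k) (A := A)).rTensor A z)) := by
    intro z
    induction z using TensorProduct.induction_on with
    | zero => simp
    | tmul x a =>
      simp only [Z, TensorProduct.lift.tmul, LinearMap.mk₂_apply, Pi.smul_apply, LinearMap.rTensor_tmul, Φ,
        LinearMap.pi_apply, coeff_apply, smul_eq_mul]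
      generalize Comod.coact (k := k) (A := A) x = y
      induction y using TensorProduct.induction_on with
      | zero => simp
      | tmul p b =>
        simp only [G, sliceL_tmul, TensorProduct.assoc_tmul, LinearMap.coe_comp, Function.comp_apply,
          TensorProduct.map_tmul, LinearMap.lTensor_tmul, LinearMap.mul'_apply, LinearEquiv.coe_coe,
          TensorProduct.lid_tmul, mul_smul_comm]
        rw [mul_comm]
      | add x y hx hy => simp only [TensorProduct.add_tmul, map_add, mul_add, hx, hy]
    | add x y hx hy => simp only [map_add, Pi.add_apply, hx, hy]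
  have h3 : ∀ z : M ⊗[k] A, G ((CoalgebraStruct.comul (R := k) (A := A)).lTensor M z) =
      algebraMap k A (φ i (sliceR (CoalgebraStruct.counit (R := k)) z)) := by
    intro z
    induction z using TensorProduct.induction_on with
    | zero => simp
    | tmul x a =>
      simp only [G, LinearMap.lTensor_tmul, LinearMap.coe_comp, Function.comp_apply, TensorProduct.map_tmul,
        LinearEquiv.coe_coe, TensorProduct.lid_tmul, HopfAlgebra.mul_antipode_lTensor_comul_apply, sliceR_tmul, map_smul,
        smul_eq_mul, map_mul, Algebra.smul_def]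
      ring
    | add x y hx hy => simp only [map_add, hx, hy]
  rw [h1, hco, h3, ← actL_apply, actL_counit, hm]
  by_cases h : i = j
  · subst h; simp
  · simp [h]

/-- Near a point where `n` elements generate, they satisfy no relation. -/
theorem smul_relation_eq_zero (hι : Function.Injective ι) (hM : IsRelHopf ι M) {n : ℕ} (φ : Fin n → (M →ₗ[k] k))
    (hφ : ∀ i (b : B) (m : M), φ i (b • m) = CoalgebraStruct.counit (R := k) b * φ i m)
    (hsur : ∀ j, ∃ m : M, ∀ i, φ i m = if i = j then 1 else 0)
    (l : Fin n → M) (b : B) (hb : ∀ m : M, b • m ∈ Submodule.span B (Set.range l))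
    (c : Fin n → B) (hc : ∑ i, c i • l i = 0) (i : Fin n) : b ^ n * c i = 0 := by
  classical
  let Φ : M →ₗ[k] (Fin n → A) := LinearMap.pi fun i => coeff A (φ i)
  have hΦ : ∀ (b : B) (m : M), Φ (b • m) = ι b • Φ m := fun b m => funext fun i => coeff_smul ι hM (hφ i) b m
  let X : Matrix (Fin n) (Fin n) A := Matrix.of fun j i => Φ (l i) j
  have hY : ∀ j, ∃ y : Fin n → A, X.mulVec y = ι b • (Pi.single j 1 : Fin n → A) := by
    intro j
    obtain ⟨m, hm⟩ := hsur j
    have h := single_mem_span_coeff (A := A) φ j m hm
    have hle : Submodule.span A (Set.range fun m : M => fun i => coeff A (φ i) m) ≤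
        (LinearMap.range X.mulVecLin).comap (LinearMap.lsmul A (Fin n → A) (ι b)) := by
      rw [Submodule.span_le]
      rintro _ ⟨w, rfl⟩
      show ι b • Φ w ∈ LinearMap.range X.mulVecLin
      rw [← hΦ]
      obtain ⟨d, hd⟩ := (Submodule.mem_span_range_iff_exists_fun B).1 (hb w)
      refine ⟨fun i => ι (d i), ?_⟩
      rw [← hd, map_sum]
      funext r
      simp only [hΦ, Matrix.mulVecLin_apply, Matrix.mulVec, dotProduct, X, Matrix.of_apply, Finset.sum_apply,
        Pi.smul_apply, smul_eq_mul]
      exact Finset.sum_congr rfl fun i _ => mul_comm _ _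
    exact hle h
  choose y hy using hY
  let Y : Matrix (Fin n) (Fin n) A := Matrix.of fun i j => y j i
  have hXY : X * Y = ι b • (1 : Matrix (Fin n) (Fin n) A) := by
    ext r j
    have := congrFun (hy j) r
    simp only [Matrix.mulVec, dotProduct, Pi.smul_apply, smul_eq_mul] at this
    rw [Matrix.mul_apply, Matrix.smul_apply, smul_eq_mul, Matrix.one_apply]
    simp only [Y, Matrix.of_apply]
    rw [this, Pi.single_apply]
  have hdet : X.det * Y.det = ι b ^ n := by
    rw [← Matrix.det_mul, hXY, Matrix.det_smul, Matrix.det_one, mul_one, Fintype.card_fin]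
  have hXc : X.mulVec (fun i => ι (c i)) = 0 := by
    have h := congrArg Φ hc
    rw [map_sum, map_zero] at h
    funext r
    have h' := congrFun h r
    simp only [hΦ, Finset.sum_apply, Pi.smul_apply, smul_eq_mul] at h'
    simp only [Matrix.mulVec, dotProduct, X, Matrix.of_apply]
    exact (Finset.sum_congr rfl fun i _ => mul_comm _ _).trans h'
  have h2 : ∀ i, X.det * ι (c i) = 0 := by
    intro i
    have h := congrArg (X.adjugate.mulVec) hXc
    rw [Matrix.mulVec_mulVec, Matrix.adjugate_mul, Matrix.smul_mulVec, Matrix.one_mulVec, Matrix.mulVec_zero] at h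
    simpa using congrFun h i
  apply hι
  rw [map_mul, map_pow, map_zero, ← hdet, mul_right_comm, h2, zero_mul]

end Modules

section Translation

/-- A translate of an element whose counit is a unit is not nilpotent. -/
theorem not_isNilpotent_translate (hι : Function.Injective ι) {κ : Type w'} [Field κ] [Algebra k κ]
    (g : B →ₐ[k] κ) (s : B) (hs : CoalgebraStruct.counit (R := k) s ≠ 0) :
    ¬ IsNilpotent ((toConv ((Algebra.TensorProduct.includeLeft : κ →ₐ[k] κ ⊗[k] A).comp g) *
      toConv ((Algebra.TensorProduct.includeRight : A →ₐ[k] κ ⊗[k] A).comp (ι : B →ₐ[k] A))).ofConv s) := by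
  let iL : κ →ₐ[k] κ ⊗[k] B := Algebra.TensorProduct.includeLeft
  let iR : B →ₐ[k] κ ⊗[k] B := Algebra.TensorProduct.includeRight
  let T : κ ⊗[k] B →ₐ[k] κ ⊗[k] A := Algebra.TensorProduct.map (AlgHom.id k κ) (ι : B →ₐ[k] A)
  have hT : Function.Injective T := Module.Flat.lTensor_preserves_injective_linearMap (ι : B →ₗ[k] A) hι
  let θ := toConv (iL.comp g) * toConv iR
  let θ' := toConv (iL.comp (g.comp (HopfAlgebra.antipodeAlgHom k B))) * toConv iR
  let τ' : κ ⊗[k] B →ₐ[k] κ ⊗[k] B := Algebra.TensorProduct.lift iL θ'.ofConv (fun _ _ => .all _ _)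
  have hτ : τ'.comp θ.ofConv = iR := by
    have e0 := AlgHom.comp_convMul_distrib τ' (toConv (iL.comp g)) (toConv iR)
    have e1 : τ'.comp (iL.comp g) = iL.comp g := AlgHom.ext fun b => by
      show τ' (g b ⊗ₜ[k] (1 : B)) = _
      simp [τ', iL]
    have e2 : τ'.comp iR = θ'.ofConv := AlgHom.ext fun b => by simp [τ', iR]
    simp only [ofConv_toConv, e1, e2, toConv_ofConv] at e0
    have e3 : toConv (iL.comp g) * toConv (iL.comp (g.comp (HopfAlgebra.antipodeAlgHom k B))) = 1 := by
      refine WithConv.ofConv_injective (AlgHom.ext fun b => ?_)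
      rw [AlgHom.convMul_apply]
      have h := congrArg (iL.comp g) (HopfAlgebra.mul_antipode_lTensor_comul_apply (R := k) b)
      rw [AlgHom.commutes] at h
      rw [show (1 : WithConv (B →ₐ[k] κ ⊗[k] B)).ofConv b = algebraMap k _ (CoalgebraStruct.counit (R := k) b) from rfl,
        ← h]
      generalize CoalgebraStruct.comul (R := k) b = z
      induction z using TensorProduct.induction_on with
      | zero => simp
      | tmul p q => simp [iL]
      | add x y hx hy => simp only [map_add, hx, hy]
    show τ'.comp (toConv (iL.comp g) * toConv iR).ofConv = iR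
    rw [e0]
    show (toConv (iL.comp g) * θ').ofConv = iR
    rw [show θ' = toConv (iL.comp (g.comp (HopfAlgebra.antipodeAlgHom k B))) * toConv iR from rfl, ← mul_assoc, e3,
      one_mul]
  intro hn
  have hTθ : T.comp θ.ofConv = (toConv ((Algebra.TensorProduct.includeLeft : κ →ₐ[k] κ ⊗[k] A).comp g) *
      toConv ((Algebra.TensorProduct.includeRight : A →ₐ[k] κ ⊗[k] A).comp (ι : B →ₐ[k] A))).ofConv := by
    rw [AlgHom.comp_convMul_distrib]
    congr 3
    exact AlgHom.ext fun b => by simp [T, iL]
  rw [← hTθ, AlgHom.comp_apply, IsNilpotent.map_iff hT] at hn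
  have h2 := hn.map τ'
  rw [show τ' (θ.ofConv s) = iR s from AlgHom.congr_fun hτ s,
    IsNilpotent.map_iff (Algebra.TensorProduct.includeRight_injective (B := B) (algebraMap k κ).injective)] at h2
  exact hs (isNilpotent_iff_eq_zero.1 (h2.map (Bialgebra.counitAlgHom k B)))

end Translation

section Main

variable {M : Type w'} [AddCommGroup M] [Module k M] [Module B M] [IsScalarTower k B M] [Comod k A M]

/-- The fibre of `M` at a maximal ideal is spanned by `d` elements if, at the counit, `d` elements and some coinvariant
vectors lying in `q • M` generate. -/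
theorem finrank_fibre_le (hι : Function.Injective ι) (hM : IsRelHopf ι M) [Module.Finite B M]
    (Z : Set M) (hZ : ∀ z ∈ Z, Comod.coact (k := k) (A := A) z = z ⊗ₜ[k] (1 : A))
    {d : ℕ} (m : Fin d → M) (s : B) (hs : CoalgebraStruct.counit (R := k) s ≠ 0)
    (hsm : ∀ x : M, s • x ∈ Submodule.span B (Z ∪ Set.range m))
    (q : Ideal B) [q.IsMaximal] (hZq : ∀ z ∈ Z, z ∈ q • (⊤ : Submodule B M)) :
    Module.finrank (B ⧸ q) (M ⧸ q • (⊤ : Submodule B M)) ≤ d := by
  classical
  letI : Field (B ⧸ q) := Ideal.Quotient.field q
  let g : B →ₐ[k] B ⧸ q := Ideal.Quotient.mkₐ k q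
  let R := (B ⧸ q) ⊗[k] A
  let gR : B →ₐ[k] R := (Algebra.TensorProduct.includeLeft : (B ⧸ q) →ₐ[k] R).comp g
  let hR : A →ₐ[k] R := Algebra.TensorProduct.includeRight
  obtain ⟨P, hP, hsP⟩ : ∃ P : Ideal R, P.IsPrime ∧ (toConv gR * toConv (hR.comp (ι : B →ₐ[k] A))).ofConv s ∉ P := by
    by_contra hcon
    push Not at hcon
    exact not_isNilpotent_translate ι hι g s hs (nilpotent_iff_mem_prime.2 fun J hJ => hcon J hJ)
  haveI := hP
  let K := P.ResidueField
  let π : R →ₐ[k] K := IsScalarTower.toAlgHom k R K
  let gK : B →ₐ[k] K := π.comp gR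
  let hK : A →ₐ[k] K := π.comp hR
  let θ : B →ₐ[k] K := (toConv gK * toConv (hK.comp (ι : B →ₐ[k] A))).ofConv
  have hθs : θ s ≠ 0 := by
    have h := AlgHom.comp_convMul_distrib π (toConv gR) (toConv (hR.comp (ι : B →ₐ[k] A)))
    simp only [ofConv_toConv, ← AlgHom.comp_assoc] at h
    intro h0
    refine hsP (Ideal.algebraMap_residueField_eq_zero.1 ?_)
    rw [← h0, show θ = (toConv gK * toConv (hK.comp (ι : B →ₐ[k] A))).ofConv from rfl, ← h]
    rfl
  let V := M ⧸ q • (⊤ : Submodule B M)
  by_contra hlt
  push Not at hlt
  haveI : Module.Finite (B ⧸ q) V := Module.Finite.of_restrictScalars_finite B _ _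
  let bV := Module.finBasis (B ⧸ q) V
  let N := Module.finrank (B ⧸ q) V
  let ℓ : (B ⧸ q) →ₐ[k] K := π.comp (Algebra.TensorProduct.includeLeft : (B ⧸ q) →ₐ[k] R)
  let f : Fin N → (M →ₗ[k] K) := fun j =>
    { toFun := fun x => ℓ (bV.repr (Submodule.Quotient.mk x) j)
      map_add' := fun x y => by simp [Submodule.Quotient.mk_add]
      map_smul' := fun c x => by
        rw [RingHom.id_apply, ← algebraMap_smul B c x, Submodule.Quotient.mk_smul,
          ← algebraMap_smul (B ⧸ q) (algebraMap k B c), map_smul, Finsupp.smul_apply, smul_eq_mul, map_mul,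
          ← IsScalarTower.algebraMap_apply, AlgHom.commutes, Algebra.smul_def] }
  have hf : ∀ j (b : B) (x : M), f j (b • x) = gK b * f j x := by
    intro j b x
    show ℓ (bV.repr (Submodule.Quotient.mk (b • x)) j) = gK b * ℓ (bV.repr (Submodule.Quotient.mk x) j)
    rw [Submodule.Quotient.mk_smul, ← algebraMap_smul (B ⧸ q) b, map_smul, Finsupp.smul_apply, smul_eq_mul, map_mul]
    rfl
  have hli : ¬ LinearIndependent K (fun j : Fin N => fun i : Fin d => translate hK (f j) (m i)) := fun h => by
    have := h.fintype_card_le_finrank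
    rw [Fintype.card_fin, Module.finrank_fintype_fun_eq_card, Fintype.card_fin] at this
    exact absurd this (not_le.2 hlt)
  rw [Fintype.linearIndependent_iff] at hli
  push Not at hli
  obtain ⟨c, hc, j0, hj0⟩ := hli
  let F : M →ₗ[k] K := ∑ j, c j • f j
  have hF : ∀ (b : B) (x : M), F (b • x) = gK b * F x := fun b x => by
    simp only [F, LinearMap.sum_apply, LinearMap.smul_apply, smul_eq_mul, hf, Finset.mul_sum]
    refine (Finset.sum_congr rfl fun j _ => mul_left_comm (c j) (gK b) (f j x)).trans ?_
    exact (Finset.mul_sum Finset.univ (fun j => c j * f j x) (gK b)).symm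
  have hTF : ∀ x, translate hK F x = ∑ j, c j * translate hK (f j) x := fun x => by
    simp only [translate, LinearMap.coe_comp, Function.comp_apply, F]
    generalize Comod.coact (k := k) (A := A) x = z
    induction z using TensorProduct.induction_on with
    | zero => simp
    | tmul w a =>
      simp
      refine (Finset.sum_mul Finset.univ (fun j => c j * f j w) (hK a)).trans ?_
      exact Finset.sum_congr rfl fun j _ => mul_assoc (c j) (f j w) (hK a)
    | add u v hu hv => simp only [map_add, hu, hv, mul_add, Finset.sum_add_distrib]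
  have hT0 : ∀ x, translate hK F x = 0 := by
    intro x
    have hle : Submodule.span B (Z ∪ Set.range m) ≤
        { carrier := {x | translate hK F x = 0}
          add_mem' := fun {a b} (ha : translate hK F a = 0) (hb : translate hK F b = 0) => by
            show translate hK F (a + b) = 0
            rw [map_add, ha, hb, add_zero]
          zero_mem' := map_zero _
          smul_mem' := fun b a (ha : translate hK F a = 0) => by
            show translate hK F (b • a) = 0
            rw [translate_smul ι hM gK hK hF, ha, mul_zero] } := by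
      rw [Submodule.span_le]
      rintro z (hz | ⟨i, rfl⟩)
      · show translate hK F z = 0
        rw [translate_apply_fixed hK F (hZ z hz)]
        simp only [F, LinearMap.sum_apply, LinearMap.smul_apply]
        refine Finset.sum_eq_zero fun j _ => ?_
        show c j • ℓ (bV.repr (Submodule.Quotient.mk z) j) = 0
        rw [(Submodule.Quotient.mk_eq_zero _).2 (hZq z hz), map_zero, Finsupp.zero_apply, map_zero, smul_zero]
      · show translate hK F (m i) = 0
        rw [hTF]
        simpa using congrFun hc i
    have h2 : translate hK F (s • x) = 0 := hle (hsm x)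
    rw [translate_smul ι hM gK hK hF, mul_eq_zero] at h2
    exact h2.resolve_left hθs
  have hF0 : ∀ x, F x = 0 := fun x => by
    have hz : translate hK F = 0 := LinearMap.ext hT0
    rw [← translate_translate_antipode hK F x, hz]
    simp [translate]
  obtain ⟨x, hx⟩ := Submodule.Quotient.mk_surjective _ (bV j0)
  refine hj0 ?_
  have h3 := hF0 x
  simp only [F, LinearMap.sum_apply, LinearMap.smul_apply, f, LinearMap.coe_mk, AddHom.coe_mk, hx, bV.repr_self,
    Finsupp.single_apply] at h3
  simpa [apply_ite ℓ] using h3

/-- Local data at a maximal ideal. -/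
theorem exists_local_generators (hι : Function.Injective ι) (hM : IsRelHopf ι M) [Module.Finite B M]
    (Z : Set M) (hZ : ∀ z ∈ Z, Comod.coact (k := k) (A := A) z = z ⊗ₜ[k] (1 : A))
    {d : ℕ} (m : Fin d → M)
    (hgen : ⊤ ≤ Submodule.span B (Z ∪ Set.range m) ⊔ RingHom.ker (Bialgebra.counitAlgHom k B) • (⊤ : Submodule B M))
    (q : Ideal B) [q.IsMaximal] (hZq : ∀ z ∈ Z, z ∈ q • (⊤ : Submodule B M)) :
    ∃ (l : Fin d → M) (b : B), b ∉ q ∧ ∀ x : M, b • x ∈ Submodule.span B (Set.range l) := by
  classical
  letI : Field (B ⧸ q) := Ideal.Quotient.field q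
  have nak : ∀ (I : Ideal B) (N : Submodule B M), ⊤ ≤ N ⊔ I • (⊤ : Submodule B M) →
      ∃ s : B, s - 1 ∈ I ∧ ∀ x : M, s • x ∈ N := by
    intro I N h
    obtain ⟨s, hs1, hs2⟩ := Submodule.exists_sub_one_mem_and_smul_eq_zero_of_fg_of_le_smul I
      (⊤ : Submodule B (M ⧸ N)) Module.Finite.fg_top (by
        rw [← N.range_mkQ, LinearMap.range_eq_map, ← Submodule.map_smul'']
        refine (Submodule.map_mono h).trans ?_
        rw [Submodule.map_sup, Submodule.mkQ_map_self, bot_sup_eq])
    exact ⟨s, hs1, fun x => (Submodule.Quotient.mk_eq_zero N).1 (hs2 (N.mkQ x) trivial)⟩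
  obtain ⟨s, hs1, hs⟩ := nak _ _ hgen
  have hεs : CoalgebraStruct.counit (R := k) s = 1 := by
    have := RingHom.mem_ker.1 hs1
    simpa [sub_eq_zero] using this
  have hle := finrank_fibre_le ι hι hM Z hZ m s (by rw [hεs]; exact one_ne_zero) hs q hZq
  let V := M ⧸ q • (⊤ : Submodule B M)
  haveI : Module.Finite (B ⧸ q) V := Module.Finite.of_restrictScalars_finite B _ _
  let bV := Module.finBasis (B ⧸ q) V
  choose w hw using fun j => Submodule.Quotient.mk_surjective (q • (⊤ : Submodule B M)) (bV j)
  refine ⟨fun i => if h : (i : ℕ) < Module.finrank (B ⧸ q) V then w ⟨i, h⟩ else 0, ?_⟩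
  obtain ⟨b, hb1, hb⟩ := nak q (Submodule.span B (Set.range fun i : Fin d =>
      if h : (i : ℕ) < Module.finrank (B ⧸ q) V then w ⟨i, h⟩ else 0)) (fun x _ => by
    let y : M := ∑ j, Quotient.out (bV.repr (Submodule.Quotient.mk x) j) • w j
    have hy : x - y ∈ q • (⊤ : Submodule B M) := by
      rw [← Submodule.Quotient.mk_eq_zero, ← Submodule.mkQ_apply, map_sub, sub_eq_zero, map_sum]
      refine (bV.sum_repr (Submodule.Quotient.mk x)).symm.trans (Finset.sum_congr rfl fun j _ => ?_)
      rw [map_smul, Submodule.mkQ_apply, hw, ← algebraMap_smul (B ⧸ q) (Quotient.out _), Ideal.Quotient.algebraMap_eq,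
        Ideal.Quotient.mk_out]
    refine Submodule.mem_sup.2 ⟨y, Submodule.sum_mem _ fun j _ => Submodule.smul_mem _ _ (Submodule.subset_span
      ⟨⟨j, lt_of_lt_of_le j.2 hle⟩, by simp⟩), x - y, hy, add_sub_cancel y x⟩)
  refine ⟨b, fun hbq => ?_, hb⟩
  exact ‹q.IsMaximal›.ne_top ((Ideal.eq_top_iff_one q).2 (by simpa using sub_mem hbq hb1))

end Main

end

end Groth.Agent.H20FF
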