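import Groth.Agent.H20FF.Core
import Groth.Prelude.Def_ComodSub
import Mathlib.RingTheory.RingHom.FaithfullyFlat

/-!
Faithful flatness of commutative Hopf algebras over Hopf subalgebras.
-/

set_option autoImplicit false

universe u v w w'

open TensorProduct HopfRep

namespace Groth.Agent.H20FF

open Groth.Agent.H20Comod

noncomputable section

variable {k : Type u} [Field k] {B : Type v} [CommRing B] [HopfAlgebra k B]
  {A : Type w} [CommRing A] [HopfAlgebra k A] (ι : B →ₐc[k] A)

section Finite

variable (M : Type w') [AddCommGroup M] [Module k M] [Module B M] [IsScalarTower k B M]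

/-- The fibre at the counit, as a `k`-subspace to divide by. -/
def augSub : Submodule k M :=
  (RingHom.ker (Bialgebra.counitAlgHom k B) • (⊤ : Submodule B M)).restrictScalars k

variable {M}

theorem smul_sub_counit_smul_mem (b : B) (x : M) :
    b • x - CoalgebraStruct.counit (R := k) b • x ∈ augSub (k := k) (B := B) M := by
  rw [← algebraMap_smul B (CoalgebraStruct.counit (R := k) b) x, ← sub_smul]
  rw [augSub, Submodule.restrictScalars_mem]
  have hker : b - algebraMap k B (CoalgebraStruct.counit (R := k) b) ∈ RingHom.ker (Bialgebra.counitAlgHom k B) := by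
    rw [RingHom.mem_ker, map_sub, AlgHom.commutes]
    simp
  exact Submodule.smul_mem_smul hker (Submodule.mem_top (R := B) (x := x))

theorem mk_smul_eq (b : B) (x : M) :
    (augSub (k := k) (B := B) M).mkQ (b • x) =
      CoalgebraStruct.counit (R := k) b • (augSub (k := k) (B := B) M).mkQ x := by
  rw [← map_smul, ← sub_eq_zero, ← map_sub]
  exact (Submodule.Quotient.mk_eq_zero _).2 (smul_sub_counit_smul_mem b x)

theorem finite_fibre [Module.Finite B M] : Module.Finite k (M ⧸ augSub (k := k) (B := B) M) := by
  obtain ⟨s, hs⟩ := Module.Finite.fg_top (R := B) (M := M)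
  classical
  refine ⟨⟨s.image (augSub (k := k) (B := B) M).mkQ, eq_top_iff.2 fun y hy0 => ?_⟩⟩
  clear hy0
  obtain ⟨x, rfl⟩ := Submodule.mkQ_surjective _ y
  have hx : x ∈ Submodule.span B (s : Set M) := hs ▸ Submodule.mem_top
  induction hx using Submodule.span_induction with
  | mem z hz => exact Submodule.subset_span (Finset.mem_coe.2 (Finset.mem_image_of_mem _ hz))
  | zero => rw [map_zero]; exact zero_mem _
  | add a b _ _ ha hb => rw [map_add]; exact add_mem ha hb
  | smul c a _ ha => rw [mk_smul_eq]; exact Submodule.smul_mem _ _ ha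

theorem top_le_span_sup (S : Set M)
    (hS : ⊤ ≤ Submodule.span k ((augSub (k := k) (B := B) M).mkQ '' S)) :
    ⊤ ≤ Submodule.span B S ⊔ RingHom.ker (Bialgebra.counitAlgHom k B) • (⊤ : Submodule B M) := by
  intro x _
  have hx := hS (Submodule.mem_top (x := (augSub (k := k) (B := B) M).mkQ x))
  rw [← Submodule.map_span] at hx
  obtain ⟨y, hy, hyx⟩ := hx
  refine Submodule.mem_sup.2 ⟨y, Submodule.span_le_restrictScalars k B S hy, x - y, ?_, add_sub_cancel y x⟩
  exact (Submodule.Quotient.eq _).1 hyx.symm

variable [Comod k A M] [Module.Finite B M]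

/-- A finite relative Hopf module is flat; at a maximal ideal containing coinvariant vectors in `q • M` those vectors
cannot be part of a minimal generating system at the counit. -/
theorem flat_of_isRelHopf (hι : Function.Injective ι) (hM : IsRelHopf ι M) : Module.Flat B M := by
  classical
  haveI := finite_fibre (k := k) (B := B) (M := M)
  let e := Module.finBasis k (M ⧸ augSub (k := k) (B := B) M)
  choose m hm using fun i => Submodule.mkQ_surjective _ (e i)
  let φ : Fin _ → (M →ₗ[k] k) := fun i => e.coord i ∘ₗ (augSub (k := k) (B := B) M).mkQ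
  have hφ : ∀ i (b : B) (x : M), φ i (b • x) = CoalgebraStruct.counit (R := k) b * φ i x := fun i b x => by
    show e.coord i ((augSub (k := k) (B := B) M).mkQ (b • x)) = _ * e.coord i ((augSub (k := k) (B := B) M).mkQ x)
    rw [mk_smul_eq]
    exact (e.coord i).map_smul _ _
  have hsur : ∀ j, ∃ x : M, ∀ i, φ i x = if i = j then 1 else 0 := fun j => ⟨m j, fun i => by
    simp only [φ, LinearMap.comp_apply, hm, Module.Basis.coord_apply, e.repr_self, Finsupp.single_apply, eq_comm]⟩
  refine Module.flat_of_localized_maximal M fun P hP => ?_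
  obtain ⟨l, b, hbP, hb⟩ := exists_local_generators ι hι hM ∅ (fun z hz => absurd hz (Set.notMem_empty z)) m
    (top_le_span_sup _ (by
      rw [Set.empty_union, ← Set.range_comp, show (augSub (k := k) (B := B) M).mkQ ∘ m = e from funext hm, e.span_eq]))
    P (fun z hz => absurd hz (Set.notMem_empty z))
  let R := Localization P.primeCompl
  let L : Fin _ → LocalizedModule P.primeCompl M := fun i => LocalizedModule.mkLinearMap P.primeCompl M (l i)
  have hspan : ⊤ ≤ Submodule.span R (Set.range L) := by
    intro y _
    induction y using LocalizedModule.induction_on with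
    | h x t =>
      have h1 : LocalizedModule.mkLinearMap P.primeCompl M (b • x) ∈ Submodule.span R (Set.range L) := by
        obtain ⟨c, hc⟩ := (Submodule.mem_span_range_iff_exists_fun B).1 (hb x)
        rw [← hc, map_sum]
        refine Submodule.sum_mem _ fun i _ => ?_
        rw [map_smul, ← IsScalarTower.algebraMap_smul R (c i)]
        exact Submodule.smul_mem _ _ (Submodule.subset_span ⟨i, rfl⟩)
      have h2 : LocalizedModule.mk x t = Localization.mk 1 (⟨b, hbP⟩ * t) •
          LocalizedModule.mkLinearMap P.primeCompl M (b • x) := by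
        rw [LocalizedModule.mkLinearMap_apply, LocalizedModule.mk_smul_mk, one_smul, mul_one]
        exact LocalizedModule.mk_eq.2 ⟨1, by simp [Submonoid.smul_def, mul_smul, smul_comm b]⟩
      rw [h2]
      exact Submodule.smul_mem _ _ h1
  have hli : LinearIndependent R L := by
    rw [Fintype.linearIndependent_iff]
    intro c hc i
    obtain ⟨⟨t, ht⟩, hint⟩ := IsLocalization.exist_integer_multiples_of_finite P.primeCompl c
    choose c' hc' using hint
    have h1 : LocalizedModule.mkLinearMap P.primeCompl M (∑ j, c' j • l j) = 0 := by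
      rw [map_sum]
      have : ∀ j, LocalizedModule.mkLinearMap P.primeCompl M (c' j • l j) = t • (c j • L j) := fun j => by
        rw [map_smul, ← IsScalarTower.algebraMap_smul R (c' j), hc']; exact smul_assoc t (c j) (L j)
      rw [Finset.sum_congr rfl fun j _ => this j, ← Finset.smul_sum, hc, smul_zero]
    obtain ⟨u, hu⟩ := (IsLocalizedModule.eq_zero_iff P.primeCompl _).1 h1
    have hrel : ∑ j, ((u : B) * c' j) • l j = 0 := by
      rw [← hu, Submonoid.smul_def, Finset.smul_sum]
      exact Finset.sum_congr rfl fun j _ => mul_smul _ _ _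
    have h0 := smul_relation_eq_zero ι hι hM φ hφ hsur l b hb _ hrel i
    have hci : algebraMap B R (c' i) = 0 := by
      refine (IsLocalization.map_eq_zero_iff P.primeCompl R _).2
        ⟨⟨b, hbP⟩ ^ Module.finrank k (M ⧸ augSub (k := k) (B := B) M) * u, ?_⟩
      rw [Submonoid.coe_mul, SubmonoidClass.coe_pow, mul_assoc]
      exact h0
    rw [hc', Algebra.smul_def] at hci
    exact (IsUnit.mul_right_eq_zero (IsLocalization.map_units R ⟨t, ht⟩)).1 hci
  haveI : Module.Free R (LocalizedModule P.primeCompl M) := Module.Free.of_basis (Module.Basis.mk hli hspan)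
  haveI : Module.Flat R (LocalizedModule P.primeCompl M) := Module.Flat.of_free
  exact Module.Flat.trans B R _

/-- A coinvariant vector with nonzero fibre at the counit is nonzero in every fibre. -/
theorem notMem_smul_top (hι : Function.Injective ι) (hM : IsRelHopf ι M) {z : M}
    (hz : Comod.coact (k := k) (A := A) z = z ⊗ₜ[k] (1 : A)) (hz0 : z ∉ augSub (k := k) (B := B) M)
    (q : Ideal B) [q.IsMaximal] : z ∉ q • (⊤ : Submodule B M) := by
  classical
  intro hzq
  haveI := finite_fibre (k := k) (B := B) (M := M)
  let Q := M ⧸ augSub (k := k) (B := B) M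
  let e := Module.finBasis k Q
  choose mm hmm using fun i => Submodule.mkQ_surjective _ (e i)
  let φ : Fin _ → (M →ₗ[k] k) := fun i => e.coord i ∘ₗ (augSub (k := k) (B := B) M).mkQ
  have hφ : ∀ i (b : B) (x : M), φ i (b • x) = CoalgebraStruct.counit (R := k) b * φ i x := fun i b x => by
    show e.coord i ((augSub (k := k) (B := B) M).mkQ (b • x)) = _ * e.coord i ((augSub (k := k) (B := B) M).mkQ x)
    rw [mk_smul_eq]
    exact (e.coord i).map_smul _ _
  have hsur : ∀ j, ∃ x : M, ∀ i, φ i x = if i = j then 1 else 0 := fun j => ⟨mm j, fun i => by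
    simp only [φ, LinearMap.comp_apply, hmm, Module.Basis.coord_apply, e.repr_self, Finsupp.single_apply, eq_comm]⟩
  let z' : Q := (augSub (k := k) (B := B) M).mkQ z
  let L : Submodule k Q := Submodule.span k {z'}
  let e' := Module.finBasis k (Q ⧸ L)
  have hd : Module.finrank k (Q ⧸ L) + 1 = Module.finrank k Q := by
    rw [← L.finrank_quotient_add_finrank, finrank_span_singleton (K := k)]
    exact fun h => hz0 ((Submodule.Quotient.mk_eq_zero _).1 h)
  choose m hm using fun i => ((L.mkQ_surjective).comp (Submodule.mkQ_surjective (augSub (k := k) (B := B) M))) (e' i)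
  obtain ⟨l, b, hbq, hb⟩ := exists_local_generators ι hι hM {z} (fun y hy => by rw [Set.mem_singleton_iff.1 hy, hz]) m
    (top_le_span_sup _ (by
      intro y _
      have hy : L.mkQ y ∈ Submodule.span k (Set.range e') := by rw [e'.span_eq]; trivial
      obtain ⟨c, hc⟩ := (Submodule.mem_span_range_iff_exists_fun k).1 hy
      have h2 : y - ∑ i, c i • (augSub (k := k) (B := B) M).mkQ (m i) ∈ L := by
        rw [← Submodule.Quotient.mk_eq_zero, ← Submodule.mkQ_apply, map_sub, ← hc, map_sum, sub_eq_zero]
        exact Finset.sum_congr rfl fun i _ => by rw [map_smul]; exact congrArg (c i • ·) (hm i).symm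
      obtain ⟨a, ha⟩ := Submodule.mem_span_singleton.1 h2
      rw [show y = a • z' + ∑ i, c i • (augSub (k := k) (B := B) M).mkQ (m i) by rw [ha, sub_add_cancel]]
      exact add_mem (Submodule.smul_mem _ _ (Submodule.subset_span ⟨z, Or.inl rfl, rfl⟩))
        (Submodule.sum_mem _ fun i _ => Submodule.smul_mem _ _ (Submodule.subset_span ⟨m i, Or.inr ⟨i, rfl⟩, rfl⟩))))
    q (fun y hy => by rw [Set.mem_singleton_iff.1 hy]; exact hzq)
  let l' : Fin (Module.finrank k Q) → M := fun i => if h : (i : ℕ) < Module.finrank k (Q ⧸ L) then l ⟨i, h⟩ else 0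
  let i0 : Fin (Module.finrank k Q) := ⟨Module.finrank k (Q ⧸ L), by omega⟩
  have hb' : ∀ x : M, b • x ∈ Submodule.span B (Set.range l') := fun x => by
    refine Submodule.span_mono ?_ (hb x)
    rintro _ ⟨i, rfl⟩
    exact ⟨⟨i, lt_of_lt_of_le i.2 (by omega)⟩, by simp [l']⟩
  have h0 := smul_relation_eq_zero ι hι hM φ hφ hsur l' b hb' (fun i => if i = i0 then 1 else 0)
    (by
      rw [Finset.sum_eq_single i0 (fun x _ hx => by rw [if_neg hx, zero_smul]) (by simp), if_pos rfl, one_smul]
      simp [l', i0]) i0
  rw [if_pos rfl, mul_one] at h0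
  exact hbq (Ideal.IsPrime.mem_of_pow_mem inferInstance _ (by rw [h0]; exact zero_mem q))

end Finite

section Algebra

variable [Algebra B A] [IsScalarTower k B A]

theorem coact_smul_algebra (halg : ∀ b, algebraMap B A b = ι b) (b : B) (a : A) :
    CoalgebraStruct.comul (R := k) (b • a) =
      act2 (M := A) ι (CoalgebraStruct.comul (R := k) b) (CoalgebraStruct.comul (R := k) a) := by
  rw [Algebra.smul_def, halg, Bialgebra.comul_mul, ← CoalgHomClass.map_comp_comul_apply]
  generalize CoalgebraStruct.comul (R := k) b = z
  generalize CoalgebraStruct.comul (R := k) a = y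
  induction z using TensorProduct.induction_on with
  | zero => simp
  | tmul b1 b2 =>
    induction y using TensorProduct.induction_on with
    | zero => simp
    | tmul p q => simp [Algebra.smul_def, halg]
    | add x y hx hy => simp only [map_add, mul_add, hx, hy]
  | add x y hx hy => simp only [map_add, LinearMap.add_apply, add_mul, hx, hy]

/-- Finitely many elements of `A` lie in a finite sub-relative-Hopf-module containing `1`. -/
theorem exists_finite_relHopf (halg : ∀ b, algebraMap B A b = ι b) {s : Set A} (hs : s.Finite) :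
    ∃ (N : Submodule B A) (c : Comod k A ↥N), Module.Finite B N ∧ s ⊆ N ∧ (1 : A) ∈ N ∧
      (letI := c; IsRelHopf ι ↥N) ∧ Hoch.IsComodHom A (k := k) (V := ↥N) (W := A) (N.subtype.restrictScalars k) := by
  classical
  obtain ⟨V, hVf, hsV, hV⟩ := exists_finite_subcomod (k := k) (A := A) (V := A) (hs.insert 1)
  let N : Submodule B A := Submodule.span B (V : Set A)
  have hVN : ∀ v ∈ V, v ∈ N := fun v hv => Submodule.subset_span hv
  have hN : IsSubcomod (k := k) (A := A) (N.restrictScalars k) := by
    intro x hx
    rw [mem_range_rTensor_subtype_iff]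
    have hx' : x ∈ Submodule.span B (V : Set A) := hx
    clear hx
    induction hx' using Submodule.span_induction with
    | mem v hv => exact fun f => hVN _ (sliceR_mem_of_mem_range (hV v hv) f)
    | zero => intro f; rw [map_zero, map_zero]; exact zero_mem N
    | add a b _ _ ha hb => intro f; rw [map_add, map_add]; exact add_mem (ha f) (hb f)
    | smul b a _ ha =>
      intro f
      rw [show Comod.coact (k := k) (A := A) (b • a) = CoalgebraStruct.comul (R := k) (b • a) from rfl,
        coact_smul_algebra ι halg, show CoalgebraStruct.comul (R := k) a = Comod.coact (k := k) (A := A) a from rfl]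
      have hz : Comod.coact (k := k) (A := A) a ∈ LinearMap.range ((N.restrictScalars k).subtype.rTensor A) :=
        (mem_range_rTensor_subtype_iff _ _).2 ha
      obtain ⟨y, hy⟩ := hz
      rw [← hy]
      clear hy
      induction (CoalgebraStruct.comul (R := k) b) using TensorProduct.induction_on with
      | zero => simp
      | tmul b1 b2 =>
        induction y using TensorProduct.induction_on with
        | zero => simp
        | tmul p q =>
          rw [LinearMap.rTensor_tmul, act2_tmul, sliceR_tmul]
          exact Submodule.smul_mem (N.restrictScalars k) _ (N.smul_mem b1 p.2)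
        | add u v hu hv => simp only [map_add]; exact add_mem hu hv
      | add u v hu hv => simp only [map_add, LinearMap.add_apply]; exact add_mem hu hv
  let c : Comod k A ↥N := ComodSub.Comod.restr (inferInstance : Comod k A A) (N.restrictScalars k) hN
  have hhom : Hoch.IsComodHom A (k := k) (V := ↥N) (W := A) (N.subtype.restrictScalars k) :=
    ComodSub.isComodHom_subtype (inferInstance : Comod k A A) (N.restrictScalars k) hN
  refine ⟨N, c, ?_, fun x hx => hVN _ (hsV (Set.mem_insert_of_mem _ hx)), hVN _ (hsV (Set.mem_insert _ _)), ?_, hhom⟩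
  · obtain ⟨t, ht⟩ := Module.Finite.iff_fg.1 hVf
    refine Module.Finite.iff_fg.2 ⟨t, le_antisymm (Submodule.span_mono fun x hx => ht ▸ Submodule.subset_span hx) ?_⟩
    rw [Submodule.span_le]
    intro v hv
    rw [SetLike.mem_coe, ← ht] at hv
    exact Submodule.span_le_restrictScalars k B _ hv
  · letI := c
    intro b x
    apply Module.Flat.rTensor_preserves_injective_linearMap (M := A) (N.subtype.restrictScalars k) N.injective_subtype
    have h1 : ∀ y : ↥N, (N.subtype.restrictScalars k).rTensor A (Comod.coact (k := k) (A := A) y) =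
        Comod.coact (k := k) (A := A) (y : A) := fun y => (LinearMap.congr_fun hhom y).symm
    rw [h1, Submodule.coe_smul,
      show Comod.coact (k := k) (A := A) (b • (x : A)) = CoalgebraStruct.comul (R := k) (b • (x : A)) from rfl,
      coact_smul_algebra ι halg, show CoalgebraStruct.comul (R := k) (x : A) = Comod.coact (k := k) (A := A) (x : A) from rfl, ← h1 x]
    generalize CoalgebraStruct.comul (R := k) b = z
    generalize Comod.coact (k := k) (A := A) x = y
    induction z using TensorProduct.induction_on with
    | zero => simp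
    | tmul b1 b2 =>
      induction y using TensorProduct.induction_on with
      | zero => simp
      | tmul p q => simp
      | add u v hu hv => simp only [map_add, hu, hv]
    | add u v hu hv => simp only [map_add, LinearMap.add_apply, hu, hv]

theorem counit_eq_zero_of_mem_augSub (halg : ∀ b, algebraMap B A b = ι b) (N : Submodule B A) {y : N}
    (hy : y ∈ augSub (k := k) (B := B) N) : CoalgebraStruct.counit (R := k) (y : A) = 0 := by
  have hy' : y ∈ RingHom.ker (Bialgebra.counitAlgHom k B) • (⊤ : Submodule B N) := hy
  have h2 : (y : A) ∈ (RingHom.ker (Bialgebra.counitAlgHom k B) • (⊤ : Submodule B N)).map N.subtype :=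
    Submodule.mem_map_of_mem hy'
  rw [Submodule.map_smul'', Submodule.map_top, Submodule.range_subtype] at h2
  refine Submodule.smul_induction_on (p := fun z : A => CoalgebraStruct.counit (R := k) z = 0) h2
    (fun r hr n _ => ?_) (fun a b ha hb => ?_)
  · have hr0 : Bialgebra.counitAlgHom k B r = 0 := hr
    rw [Algebra.smul_def, halg, Bialgebra.counit_mul, CoalgHomClass.counit_comp_apply, ← Bialgebra.counitAlgHom_apply,
      hr0, zero_mul]
  · rw [map_add, ha, hb, add_zero]

/-- A commutative Hopf algebra over a field is faithfully flat over every Hopf subalgebra. -/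
theorem faithfullyFlat_of_injective (hι : Function.Injective ι) (halg : ∀ b, algebraMap B A b = ι b) :
    Module.FaithfullyFlat B A := by
  classical
  have hflat : Module.Flat B A := by
    rw [Module.Flat.iff_forall_isTrivialRelation]
    intro n f x hfx
    obtain ⟨N, c, hfin, hsN, -, hM, -⟩ := exists_finite_relHopf ι halg (Set.finite_range x)
    letI := c
    haveI := hfin
    haveI := flat_of_isRelHopf ι hι hM
    have h0 : ∑ i, f i • (⟨x i, hsN ⟨i, rfl⟩⟩ : N) = 0 := Subtype.ext (by simpa using hfx)
    obtain ⟨j, a, y, h1, h2⟩ := Module.Flat.iff_forall_isTrivialRelation.1 ‹Module.Flat B N› h0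
    exact ⟨j, a, fun i => (y i : A), fun i => by simpa using congrArg Subtype.val (h1 i), h2⟩
  refine { submodule_ne_top := fun q hq htop => ?_ }
  haveI := hq
  have h1 : (1 : A) ∈ q • (⊤ : Submodule B A) := htop.ge Submodule.mem_top
  rw [← Submodule.span_univ] at h1
  obtain ⟨s, hs⟩ : ∃ s : Finset A, (1 : A) ∈ q • Submodule.span B (s : Set A) := by
    clear htop
    rw [Submodule.span_univ] at h1
    refine Submodule.smul_induction_on (p := fun z : A => ∃ s : Finset A, z ∈ q • Submodule.span B (s : Set A)) h1
      (fun r hr n _ => ⟨{n}, Submodule.smul_mem_smul hr (Submodule.subset_span (by simp))⟩) (fun a b ha hb => ?_)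
    obtain ⟨s, hs⟩ := ha
    obtain ⟨t, ht⟩ := hb
    exact ⟨s ∪ t, add_mem (Submodule.smul_mono le_rfl (Submodule.span_mono (Finset.coe_subset.2 Finset.subset_union_left)) hs)
      (Submodule.smul_mono le_rfl (Submodule.span_mono (Finset.coe_subset.2 Finset.subset_union_right)) ht)⟩
  obtain ⟨N, c, hfin, hsN, h1N, hM, hhom⟩ := exists_finite_relHopf ι halg s.finite_toSet
  letI := c
  haveI := hfin
  have hz : Comod.coact (k := k) (A := A) (⟨1, h1N⟩ : N) = (⟨1, h1N⟩ : N) ⊗ₜ[k] (1 : A) := by
    apply Module.Flat.rTensor_preserves_injective_linearMap (M := A) (N.subtype.restrictScalars k) N.injective_subtype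
    rw [← LinearMap.congr_fun hhom ⟨1, h1N⟩ |>.trans (LinearMap.comp_apply _ _ _)]
    show CoalgebraStruct.comul (R := k) (1 : A) = (1 : A) ⊗ₜ[k] (1 : A)
    rw [Bialgebra.comul_one, Algebra.TensorProduct.one_def]
  refine notMem_smul_top ι hι hM hz (fun h => ?_) q ?_
  · have h' := counit_eq_zero_of_mem_augSub ι halg N h
    simp at h'
  · have hle : q • Submodule.span B (s : Set A) ≤ (q • (⊤ : Submodule B N)).map N.subtype := by
      rw [Submodule.map_smul'', Submodule.map_top, Submodule.range_subtype]
      exact Submodule.smul_mono le_rfl (Submodule.span_le.2 hsN)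
    obtain ⟨y, hy, hy1⟩ := hle hs
    rwa [show (⟨1, h1N⟩ : N) = y from Subtype.ext hy1.symm]

end Algebra

theorem faithfullyFlat_ringHom (hι : Function.Injective ι) : (ι : B →+* A).FaithfullyFlat := by
  letI : Algebra B A := (ι : B →+* A).toAlgebra
  haveI : IsScalarTower k B A := IsScalarTower.of_algebraMap_eq fun c => ((ι : B →ₐ[k] A).commutes c).symm
  exact faithfullyFlat_of_injective ι hι fun _ => rfl

end

end Groth.Agent.H20FF
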